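import Groth.Agent.CurveCover.Line
import Groth.Agent.Ribbon18.Euler
import Groth.Agent.SurfRows.LineBundles
import Groth.Agent.CliffCover.Basic
import Groth.Agent.KFlatLib.Scheme.ResolutionDescent
import Groth.Agent.S11486
import Groth.Agent.TFOneX.Euler

/-!
# Direct images of line bundles along double covers of the projective line
-/

set_option autoImplicit false
set_option linter.style.haveILetI false
set_option linter.unusedSectionVars false
set_option backward.isDefEq.respectTransparency false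
set_option backward.isDefEq.respectTransparency.types false
set_option maxHeartbeats 1000000
set_option synthInstance.maxHeartbeats 400000

universe u

open CategoryTheory CategoryTheory.Limits AlgebraicGeometry

noncomputable section

namespace Groth.Agent.DoubleCoverSplit

variable (k : Type u) [Field k]

/-- A coproduct over `Fin 2` is a biproduct. -/
def finTwoIso {X : Scheme.{u}} (M : Fin 2 → X.Modules) : (∐ M) ≅ M 0 ⊞ M 1 where
  hom := Sigma.desc fun j => match j with
    | ⟨0, _⟩ => biprod.inl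
    | ⟨1, _⟩ => biprod.inr
  inv := biprod.desc (Sigma.ι M 0) (Sigma.ι M 1)
  hom_inv_id := by
    refine Sigma.hom_ext _ _ fun j => ?_
    fin_cases j <;> simp
  inv_hom_id := by
    refine biprod.hom_ext' _ _ ?_ ?_ <;> simp

/-- The summands of `π_* L` for a double cover of the line. -/
theorem exists_twists [IsAlgClosed k] [CharZero k] (E : Scheme.{u}) [E.Over (Spec (CommRingCat.of k))]
    [IsIntegral E] [IsProper (E ↘ Spec (CommRingCat.of k))] (hE : topologicalKrullDim E = 1)
    (π : E ⟶ CohB1.ProjSpace 1 k) (hπ : π ≫ CohB1.ProjSpace.toSpec 1 k = E ↘ Spec (CommRingCat.of k))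
    [IsFinite π] [Flat π] (hrk : ∀ y : ↥(CohB1.ProjSpace 1 k), Scheme.Hom.finrank π y = 2)
    {L : E.Modules} (hL : PicF.IsInvertible L) :
    ∃ a : Fin 2 → ℤ, Nonempty ((Scheme.Modules.pushforward π).obj L ≅
        ∐ fun j : Fin 2 => Twist.twistProjSpace 1 k (a j)) ∧
      a 0 + a 1 + 2 = Curv2.euler k E L ∧
      ∀ j, 2 * a j ≤ Curv2.deg k E L 1 ∧ (2 * a j = Curv2.deg k E L 1 →
        Nonempty (L ≅ (Scheme.Modules.pullback π).obj (Twist.twistProjSpace 1 k (a j)))) := by
  haveI := CurveCover.isProper_line k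
  haveI := CurveCover.isIntegral_line k
  haveI := CurveCohLib.isNoetherian_of_proper (k := k) (X := E)
  haveI := CurveCohLib.isNoetherian_of_proper (k := k) (X := CohB1.ProjSpace 1 k)
  have hπ' : π ≫ ((CohB1.ProjSpace 1 k) ↘ Spec (CommRingCat.of k)) = E ↘ Spec (CommRingCat.of k) := hπ
  haveI : LocallyOfFinitePresentation (π ≫ ((CohB1.ProjSpace 1 k) ↘ Spec (CommRingCat.of k))) := by
    rw [hπ']; infer_instance
  haveI : LocallyOfFinitePresentation π :=
    AlgSpPts.locallyOfFinitePresentation_of_comp π ((CohB1.ProjSpace 1 k) ↘ Spec (CommRingCat.of k))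
  have hdP := CurveCover.dim_line k
  have hLf : FlatMod.IsFinLocFree L := fun y => let ⟨W, hy, he⟩ := InvEnd.isFinLocFreeOfRank_one hL y; ⟨W, 1, hy, he⟩
  let P := (Scheme.Modules.pushforward π).obj L
  have hPf : FlatMod.IsFinLocFree P := KFlatLib.isFinLocFree_push_of_finLocFree π hLf
  have hPc : Coh.IsCoh P := CurveDeg.isCoh_of_isFinLocFree hPf
  -- Euler characteristics of direct images
  have he : ∀ M : E.Modules, Coh.IsQCoh M →
      Curv2.euler k E M = Curv2.euler k (CohB1.ProjSpace 1 k) ((Scheme.Modules.pushforward π).obj M) := fun M hM =>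
    finsum_congr fun i => by
      obtain ⟨e⟩ := PnCoh.exists_linearEquiv_push k π hπ' hM i
      rw [e.finrank_eq]
  have hcov : ∀ b : ℤ, Curv2.deg k E ((Scheme.Modules.pullback π).obj (Twist.twistProjSpace 1 k b)) 1 = 2 * b := fun b => by
    rw [CurveBC.deg_pullback k π hdP hπ' (CurveCover.isInvertible_twist k b), CliffCover.coverDeg_eq π hrk,
      SurfRows.deg_twist]
    rfl
  -- the rank is two
  have hrk2 : CurveBundle.rk P = 2 := by
    let O1 := Twist.twistProjSpace 1 k 1
    have hO1 := CurveCover.isInvertible_twist k 1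
    haveI : EnoughInjectives E.Modules := inferInstance
    obtain ⟨φ⟩ := S0927.result π L O1
      (fun y => let ⟨W, hy, he⟩ := InvEnd.isFinLocFreeOfRank_one hO1 y; ⟨W, 1, hy, he⟩) 0
    let ψ := (Scheme.Modules.pushforward π).rightDerivedZeroIsoSelf
    let a : (DCoh.tensorBi.obj O1).obj P ≅
        (Scheme.Modules.pushforward π).obj ((DCoh.tensorBi.obj ((Scheme.Modules.pullback π).obj O1)).obj L) :=
      (DCoh.tensorBi.obj O1).mapIso (ψ.app L).symm ≪≫ φ ≪≫ ψ.app _
    have hO1' := PicClLib.isInvertible_pullback π hO1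
    have h1 := CurveTensor.euler_tensor k hdP (InvEnd.isFinLocFreeOfRank_one hO1) hPc
    have he1 := he ((DCoh.tensorBi.obj ((Scheme.Modules.pullback π).obj O1)).obj L)
      (ProjUPX.isQCoh_of_isInvertible (InvX.isInvertible_tensorMod hO1' hL))
    rw [CurveCohLib.euler_congr a, ← he1, ← he _ (ProjUPX.isQCoh_of_isInvertible hL),
      SurfRows.deg_twist] at h1
    have h2 := CurveRR.deg_tensor k hE hO1' hL
    rw [hcov] at h2
    unfold Curv2.deg at h2
    push_cast at h1 h2
    simp only [O1] at h1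
    omega
  have hP2 : FlatMod.IsFinLocFreeOfRank 2 P := hrk2 ▸ CurveBundle.isFinLocFreeOfRank_rk hPf
  obtain ⟨a, ⟨φ⟩⟩ := (S11486.result k 1 2 P hP2).2 fun i d h0 h1 => absurd h1 (by omega)
  refine ⟨a, ⟨φ⟩, ?_, fun j => ?_⟩
  · rw [he L (ProjUPX.isQCoh_of_isInvertible hL),
      CurveCohLib.euler_congr (φ ≪≫ finTwoIso fun j : Fin 2 => Twist.twistProjSpace 1 k (a j)),
      TFOneX.euler_biprod k (CurveDeg.isCoh_of_isInvertible (CurveCover.isInvertible_twist k _))
        (CurveDeg.isCoh_of_isInvertible (CurveCover.isInvertible_twist k _)),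
      Ribbon18.euler_twist_line, Ribbon18.euler_twist_line]
    ring
  · let adj := Scheme.Modules.pullbackPushforwardAdjunction π
    let i0 : Twist.twistProjSpace 1 k (a j) ⟶ P := Sigma.ι (fun j => Twist.twistProjSpace 1 k (a j)) j ≫ φ.inv
    have hi0 : i0 ≠ 0 := by
      intro h
      have h' : Sigma.ι (fun j => Twist.twistProjSpace 1 k (a j)) j = 0 := by
        rw [← cancel_mono φ.inv, zero_comp]; exact h
      have hz : IsZero (Twist.twistProjSpace 1 k (a j)) := by
        rw [IsZero.iff_id_eq_zero]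
        classical
        have := congrArg (· ≫ Sigma.desc (fun i => if hij : i = j then eqToHom (by rw [hij]) else 0)) h'
        simpa using this
      exact CurveEnd.not_isZero _ 1 one_pos (InvEnd.isFinLocFreeOfRank_one (CurveCover.isInvertible_twist k (a j))) hz
    let s : (Scheme.Modules.pullback π).obj (Twist.twistProjSpace 1 k (a j)) ⟶ L :=
      (adj.homEquiv _ _).symm i0
    have hs : s ≠ 0 := by
      intro h
      apply hi0
      rw [← (adj.homEquiv _ _).apply_symm_apply i0]
      show (adj.homEquiv _ _) s = 0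
      rw [h, Adjunction.homEquiv_unit, Functor.map_zero, comp_zero]
    obtain ⟨hle, hiso⟩ := CurveDeg.deg_le_and_isIso k hE.le
      (PicClLib.isInvertible_pullback π (CurveCover.isInvertible_twist k (a j))) hL s hs
    rw [hcov] at hle hiso
    exact ⟨hle, fun h => haveI := hiso h; ⟨(asIso s).symm⟩⟩

/-- There are no nonzero maps between twists of decreasing degree. -/
theorem hom_eq_zero [IsAlgClosed k] {a b : ℤ} (h : b < a)
    (f : Twist.twistProjSpace 1 k a ⟶ Twist.twistProjSpace 1 k b) : f = 0 := by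
  by_contra hf
  haveI := CurveCover.isProper_line k
  haveI := CurveCover.isIntegral_line k
  haveI := CurveCohLib.isNoetherian_of_proper (k := k) (X := CohB1.ProjSpace 1 k)
  have hle := (CurveDeg.deg_le_and_isIso k (CurveCover.dim_line k).le (CurveCover.isInvertible_twist k a)
    (CurveCover.isInvertible_twist k b) f hf).1
  rw [SurfRows.deg_twist, SurfRows.deg_twist] at hle
  omega

theorem iso_swap {X : Scheme.{u}} {P : X.Modules} {a b : Fin 2 → X.Modules} (h : Nonempty (P ≅ ∐ a))
    (h0 : Nonempty (a 0 ≅ b 1)) (h1 : Nonempty (a 1 ≅ b 0)) : Nonempty (P ≅ ∐ b) := by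
  obtain ⟨e⟩ := h
  obtain ⟨e0⟩ := h0
  obtain ⟨e1⟩ := h1
  exact ⟨e ≪≫ finTwoIso a ≪≫ biprod.mapIso e0 e1 ≪≫ biprod.braiding _ _ ≪≫ (finTwoIso b).symm⟩

theorem iso_same {X : Scheme.{u}} {P : X.Modules} {a b : Fin 2 → X.Modules} (h : Nonempty (P ≅ ∐ a))
    (h0 : Nonempty (a 0 ≅ b 0)) (h1 : Nonempty (a 1 ≅ b 1)) : Nonempty (P ≅ ∐ b) := by
  obtain ⟨e⟩ := h
  obtain ⟨e0⟩ := h0
  obtain ⟨e1⟩ := h1
  exact ⟨e ≪≫ finTwoIso a ≪≫ biprod.mapIso e0 e1 ≪≫ (finTwoIso b).symm⟩

theorem nonempty_twist_iso {a b : ℤ} (h : a = b) :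
    Nonempty (Twist.twistProjSpace 1 k a ≅ Twist.twistProjSpace 1 k b) := ⟨eqToIso (by rw [h])⟩

end Groth.Agent.DoubleCoverSplit
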